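import Groth.Agent.Lib.AbDualBase
import Groth.Agent.Lib.AVPicZero
import Groth.Prelude.Def_AgPol

/-!
The class pulled back from a Poincaré class along the graph of a polarisation.
-/

set_option autoImplicit false
set_option linter.style.haveILetI false
set_option linter.unusedSectionVars false
set_option backward.isDefEq.respectTransparency false
set_option backward.isDefEq.respectTransparency.types false
set_option maxHeartbeats 800000

universe u

open CategoryTheory CategoryTheory.Limits MonoidalCategory CartesianMonoidalCategory MonObj AlgebraicGeometry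

noncomputable section

namespace Groth.Agent.AgPolPoinc

open Groth.Agent.H23 Groth.Agent.H23.TrivBasic Groth.Agent.AbDualBase
open scoped Groth.Agent.H23.PicMul CategoryTheory.Obj

variable {S : Scheme.{u}}

/-- Pullback of classes, multiplicative. -/
abbrev pls {T T' : Over S} (f : T' ⟶ T) : PicF.Cl T.left →* PicF.Cl T'.left := PicMul.pullHom f.left

theorem pls_pls {T T' T'' : Over S} (g : T'' ⟶ T') (f : T' ⟶ T) (c : PicF.Cl T.left) :
    pls g (pls f c) = pls (g ≫ f) c :=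
  PicClLib.pullCl_comp g.left f.left c

/-- Algebraically trivial classes pull back across a change of base. -/
theorem pz_of_maps' {S' : Scheme.{u}} {A : Over S} {B : Over S'} {T' : Over S} {T : Over S'}
    (g : T'.left ⟶ T.left) (m : PicF.XT A.hom T' ⟶ PicF.XT B.hom T)
    (hm : m ≫ PicF.XTproj B.hom T = PicF.XTproj A.hom T' ≫ g) {c : PicF.Cl (PicF.XT B.hom T)}
    (h : AbDual.IsPicZeroCl B.hom T c) : AbDual.IsPicZeroCl A.hom T' (PicF.pullCl m c) := by
  obtain ⟨L, rfl, hL, hLt⟩ := h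
  refine ⟨_, rfl, PicClLib.isInvertible_pullback _ hL, fun t Ω _ _ σ hσ => ?_⟩
  have hr : Set.range (σ ≫ g) = {g t} := by
    rw [Scheme.Hom.comp_base, TopCat.coe_comp, Set.range_comp, hσ, Set.image_singleton]
  have h0 := hLt (g t) Ω (σ ≫ g) hr
  let e : pullback (PicF.XTproj A.hom T') σ ⟶ pullback (PicF.XTproj B.hom T) (σ ≫ g) :=
    pullback.lift (pullback.fst _ σ ≫ m) (pullback.snd _ σ) (by
      rw [Category.assoc, hm, pullback.condition_assoc])
  have h1 := AVDual.algEquivZero_pullback _ _ e (pullback.lift_snd _ _ _) h0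
  refine @AVDual.algEquivZero_of_iso Ω _ _ ⟨pullback.snd _ σ⟩ _ _ ?_ h1
  exact (Scheme.Modules.pullbackComp _ _).app L ≪≫
    eqToIso (congrArg (fun m => (Scheme.Modules.pullback m).obj L) (pullback.lift_fst _ _ _)) ≪≫
    ((Scheme.Modules.pullbackComp _ _).app L).symm

theorem secT_eq {X : Over S} [GrpObj X] (T : Over S) :
    PicF.secT X.hom η[X].left (Over.w η[X]) T = (lift (1 : T ⟶ X) (𝟙 T)).left := by
  refine pullback.hom_ext ?_ ?_
  · show _ = (lift (1 : T ⟶ X) (𝟙 T)).left ≫ (fst X T).left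
    rw [← Over.comp_left, lift_fst, Hom.one_def]
    exact pullback.lift_fst _ _ _
  · show _ = (lift (1 : T ⟶ X) (𝟙 T)).left ≫ (snd X T).left
    rw [← Over.comp_left, lift_snd]
    exact pullback.lift_snd _ _ _

theorem lambda_eq {A : Over S} [GrpObj A] {L : A.left.Modules} {N : (A ⊗ A).left.Modules}
    (hN : AgPol.IsLambdaSheaf μ[A].left (fst A A).left (snd A A).left L N) {W : Over S} (a b : W ⟶ A) :
    pls (lift a b) (PicF.cl N) * pls a (PicF.cl L) * pls b (PicF.cl L) = pls (a * b) (PicF.cl L) := by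
  have h := congrArg (pls (lift a b)) ((PicGrp.cl_eq_cl_iff _ _).2 hN)
  rw [PicMul.cl_tensor, PicMul.cl_tensor, map_mul, map_mul,
    show PicF.cl ((Scheme.Modules.pullback (fst A A).left).obj L) = pls (fst A A) (PicF.cl L) from rfl,
    show PicF.cl ((Scheme.Modules.pullback (snd A A).left).obj L) = pls (snd A A) (PicF.cl L) from rfl,
    show PicF.cl ((Scheme.Modules.pullback μ[A].left).obj L) = pls μ[A] (PicF.cl L) from rfl,
    pls_pls, pls_pls, pls_pls, lift_fst, lift_snd, ← Hom.mul_def] at h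
  exact h

theorem isUnit_pls {T T' : Over S} (f : T' ⟶ T) {c : PicF.Cl T.left} (hc : PicF.IsInvertibleCl c) :
    IsUnit (pls f c) :=
  PicMul.isUnit_of_isInvertibleCl (PicClLib.isInvertibleCl_pullCl f.left hc)

section Fibre

variable {Ω : Type u} [Field Ω] (σ : Spec (CommRingCat.of Ω) ⟶ S)

/-- Morphisms to the fibre as morphisms over the base. -/
def dn {W : Over (Spec (CommRingCat.of Ω))} {A : Over S} (f : W ⟶ (Over.pullback σ).obj A) :
    (Over.map σ).obj W ⟶ A :=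
  Over.homMk (f.left ≫ pullback.fst A.hom σ) (by
    have h : f.left ≫ pullback.snd A.hom σ = W.hom := Over.w f
    show (f.left ≫ pullback.fst A.hom σ) ≫ A.hom = W.hom ≫ σ
    rw [Category.assoc, pullback.condition, ← Category.assoc, h])

/-- Morphisms over the base as morphisms to the fibre. -/
def up {W : Over (Spec (CommRingCat.of Ω))} {A : Over S} (u : (Over.map σ).obj W ⟶ A) :
    W ⟶ (Over.pullback σ).obj A :=
  Over.homMk (pullback.lift u.left W.hom (Over.w u)) (pullback.lift_snd _ _ _)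

theorem up_dn {W : Over (Spec (CommRingCat.of Ω))} {A : Over S} (f : W ⟶ (Over.pullback σ).obj A) :
    up σ (dn σ f) = f :=
  Over.OverMorphism.ext (pullback.hom_ext (pullback.lift_fst _ _ _) ((pullback.lift_snd _ _ _).trans (Over.w f).symm))

theorem dn_up {W : Over (Spec (CommRingCat.of Ω))} {A : Over S} (u : (Over.map σ).obj W ⟶ A) :
    dn σ (up σ u) = u :=
  Over.OverMorphism.ext (pullback.lift_fst _ _ _)

theorem up_comp {W : Over (Spec (CommRingCat.of Ω))} {A B : Over S} (u : (Over.map σ).obj W ⟶ A) (v : A ⟶ B) :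
    up σ (u ≫ v) = up σ u ≫ (Over.pullback σ).map v := by
  refine Over.OverMorphism.ext (pullback.hom_ext ?_ ?_) <;> simp [up]

theorem dn_comp {W W' : Over (Spec (CommRingCat.of Ω))} {A : Over S} (h : W' ⟶ W)
    (f : W ⟶ (Over.pullback σ).obj A) : dn σ (h ≫ f) = (Over.map σ).map h ≫ dn σ f :=
  Over.OverMorphism.ext (Category.assoc _ _ _)

variable {W : Over (Spec (CommRingCat.of Ω))} {A B : Over S} [GrpObj A]

theorem up_mul (u v : (Over.map σ).obj W ⟶ A) : up σ (u * v) = up σ u * up σ v := by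
  have h := fun w : (Over.map σ).obj W ⟶ A => up_comp σ (𝟙 _) w
  simp only [Category.id_comp] at h
  rw [h, h u, h v, Functor.map_mul, MonObj.comp_mul]

theorem dn_mul (f g : W ⟶ (Over.pullback σ).obj A) : dn σ (f * g) = dn σ f * dn σ g := by
  rw [← dn_up σ (dn σ f * dn σ g), up_mul, up_dn, up_dn]

theorem dn_one : dn σ (1 : W ⟶ (Over.pullback σ).obj A) = 1 :=
  mul_eq_left.mp ((dn_mul σ 1 1).symm.trans (congrArg (dn σ) (_root_.mul_one 1)))

omit [GrpObj A]

/-- A class on a product evaluated at two morphisms to the fibres. -/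
def pr (P : PicF.Cl (A ⊗ B).left) (f : W ⟶ (Over.pullback σ).obj A) (g : W ⟶ (Over.pullback σ).obj B) :
    PicF.Cl W.left :=
  pls (lift (dn σ f) (dn σ g)) P

theorem pl_pr {W' : Over (Spec (CommRingCat.of Ω))} (h : W' ⟶ W) (P : PicF.Cl (A ⊗ B).left)
    (f : W ⟶ (Over.pullback σ).obj A) (g : W ⟶ (Over.pullback σ).obj B) :
    AVPair.pl h (pr σ P f g) = pr σ P (h ≫ f) (h ≫ g) := by
  rw [pr, pr, dn_comp, dn_comp, ← comp_lift, ← pls_pls]
  rfl

end Fibre

section Point

variable {A At : Over S} [GrpObj A] [IsCommMonObj A] [GrpObj At] {φ : AgPol.DualMap A At}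
  (hdual : AbDual.IsDualAV Scheme.fppfPrecoverage A At φ) {ξ : PicF.Cl (PicF.XT A.hom At)}
  (hξ : AbDual.IsPoincareCl A At φ ξ) (lam : A ⟶ At)
  {Ω : Type u} [Field Ω] [IsAlgClosed Ω] (σ : Spec (CommRingCat.of Ω) ⟶ S)

set_option quotPrecheck false in
local notation "XΩ" => (Over.pullback σ).obj A

/-- The structure map to the point. -/
def toPt (W : Over (Spec (CommRingCat.of Ω))) : (Over.map σ).obj W ⟶ Over.mk σ := Over.homMk W.hom rfl

include hdual hξ in
theorem phi_xtMap (y : Over.mk σ ⟶ At) : φ _ (PicF.pullCl (PicF.XTmap A.hom y) ξ) = y := by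
  rw [hdual.relPic.natural _ _ y ξ hξ.1, hξ.2.1, Category.comp_id]

omit [GrpObj A] [IsCommMonObj A] [GrpObj At] in
theorem xtMap_left {B : Over S} (y : Over.mk σ ⟶ B) :
    PicF.XTmap A.hom y = (lift (dn σ (𝟙 XΩ)) (toPt σ XΩ ≫ y)).left := by
  refine pullback.hom_ext ?_ ?_
  · show _ = (lift (dn σ (𝟙 XΩ)) (toPt σ XΩ ≫ y)).left ≫ (fst A B).left
    rw [← Over.comp_left, lift_fst]
    refine (pullback.lift_fst _ _ _).trans ?_
    show _ ≫ 𝟙 _ = 𝟙 _ ≫ pullback.fst A.hom σ
    rw [Category.comp_id, Category.id_comp]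
    rfl
  · show _ = (lift (dn σ (𝟙 XΩ)) (toPt σ XΩ ≫ y)).left ≫ (snd A B).left
    rw [← Over.comp_left, lift_snd]
    exact pullback.lift_snd _ _ _

theorem axis_left (hξ : AbDual.IsPoincareCl A At φ ξ) :
    pls (lift (1 : At ⟶ A) (𝟙 At)) ξ = 1 := by
  have := hξ.2.2
  rw [secT_eq] at this
  exact this

include hdual hξ in
theorem axis_right : pls (lift (dn σ (𝟙 XΩ)) (1 : (Over.map σ).obj XΩ ⟶ At)) ξ = 1 := by
  have h : PicF.pullCl (PicF.XTmap A.hom (1 : Over.mk σ ⟶ At)) ξ = 1 :=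
    eq_of_phi_point hdual σ (pz_xtMap _ hξ.1) (pz_one _) (by rw [phi_xtMap hdual hξ, phi_one hdual])
  rw [xtMap_left, MonObj.comp_one] at h
  exact h

variable [IsProper A.hom] [Smooth A.hom] [GeometricallyConnected A.hom]

omit [GrpObj A] [IsCommMonObj A] [GrpObj At] in
theorem xtMap_bcXT (w : 𝟙_ (Over (Spec (CommRingCat.of Ω))) ⟶ XΩ)
    (g : Over.mk σ ⟶ (Over.map σ).obj XΩ) (hg : g.left = w.left) :
    PicF.XTmap A.hom g ≫ (AgPol.bcXTIso σ A XΩ).inv = (lift (𝟙 XΩ) (toUnit XΩ ≫ w)).left := by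
  have hw : w.left ≫ pullback.snd A.hom σ = 𝟙 _ := Over.w w
  have h1 : PicF.XTmap A.hom g ≫ pullback.fst A.hom ((Over.map σ).obj XΩ).hom = pullback.fst A.hom σ :=
    (pullback.lift_fst _ _ _).trans (Category.comp_id _)
  have h2 : PicF.XTmap A.hom g ≫ pullback.snd A.hom ((Over.map σ).obj XΩ).hom = pullback.snd A.hom σ ≫ w.left :=
    (pullback.lift_snd _ _ _).trans (congrArg (pullback.snd A.hom σ ≫ ·) hg)
  have e1 := congrArg Over.Hom.left (lift_fst (𝟙 XΩ) (toUnit XΩ ≫ w))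
  have e2 := congrArg Over.Hom.left (lift_snd (𝟙 XΩ) (toUnit XΩ ≫ w))
  rw [Over.comp_left, Over.id_left] at e1
  rw [Over.comp_left, Over.comp_left] at e2
  refine pullback.hom_ext (pullback.hom_ext ?_ ?_) ?_
  · refine Eq.trans ?_ ((congrArg (· ≫ pullback.fst A.hom σ) e1).trans (Category.id_comp _)).symm
    rw [Category.assoc, Category.assoc]
    erw [pullbackLeftPullbackSndIso_inv_fst]
    exact h1
  · refine Eq.trans ?_ ((congrArg (· ≫ pullback.snd A.hom σ) e1).trans (Category.id_comp _)).symm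
    rw [Category.assoc, Category.assoc]
    erw [pullbackLeftPullbackSndIso_inv_fst_snd]
    refine ((Category.assoc _ _ _).symm.trans (congrArg (· ≫ pullback.snd A.hom σ) h2)).trans ?_
    rw [Category.assoc, hw]
    exact Category.comp_id _
  · refine Eq.trans ?_ e2.symm
    rw [Category.assoc]
    erw [pullbackLeftPullbackSndIso_inv_snd_snd]
    exact h2

include hdual hξ in
/-- The class attached to the polarisation has the slices of the Poincaré class. -/


theorem slice_eq {n : PicF.Cl (XΩ ⊗ XΩ).left} (hnz : AbDual.IsPicZeroCl (XΩ).hom XΩ n)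
    (hNlam : AgPol.bcDual σ A At φ XΩ n = (Over.pullback σ).map lam)
    (w : 𝟙_ (Over (Spec (CommRingCat.of Ω))) ⟶ XΩ) :
    pr σ (pls (A ◁ lam) ξ) (𝟙 XΩ) (toUnit XΩ ≫ w) = AVPair.pl (lift (𝟙 XΩ) (toUnit XΩ ≫ w)) n := by
  let T' : Over S := (Over.map σ).obj XΩ
  let x : Over.mk σ ⟶ A := Over.homMk (w.left ≫ pullback.fst A.hom σ) (by
    have h : w.left ≫ pullback.snd A.hom σ = 𝟙 _ := Over.w w
    show (w.left ≫ pullback.fst A.hom σ) ≫ A.hom = σ
    rw [Category.assoc, pullback.condition, ← Category.assoc, h, Category.id_comp])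
  let g : Over.mk σ ⟶ T' := Over.homMk w.left (by
    have h : w.left ≫ pullback.snd A.hom σ = 𝟙 _ := Over.w w
    show w.left ≫ pullback.snd A.hom σ ≫ σ = σ
    rw [← Category.assoc, h, Category.id_comp])
  have hgx : g ≫ dn σ (𝟙 XΩ) = x := Over.OverMorphism.ext (by
    show w.left ≫ 𝟙 _ ≫ pullback.fst A.hom σ = w.left ≫ pullback.fst A.hom σ
    rw [Category.id_comp])
  have hdx : dn σ (toUnit XΩ ≫ w) = toPt σ XΩ ≫ x := Over.OverMorphism.ext (Category.assoc _ _ _)
  let iv := (AgPol.bcXTIso σ A XΩ).inv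
  have hiv : (AgPol.bcXTIso σ A XΩ).inv ≫ pullback.snd (pullback.snd A.hom σ) (XΩ).hom =
      pullback.snd A.hom ((XΩ).hom ≫ σ) :=
    pullbackLeftPullbackSndIso_inv_snd_snd A.hom σ (XΩ).hom
  have hz : AbDual.IsPicZeroCl A.hom T' (PicF.pullCl iv n) :=
    pz_of_maps' (T := XΩ) (T' := T') (B := XΩ) (𝟙 _) iv (hiv.trans (Category.comp_id _).symm) hnz
  have hlamT : φ T' (PicF.pullCl iv n) = dn σ (𝟙 XΩ) ≫ lam := by
    refine Over.OverMorphism.ext ?_
    have h := congrArg (fun f : XΩ ⟶ (Over.pullback σ).obj At => f.left ≫ pullback.fst At.hom σ) hNlam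
    refine ((pullback.lift_fst _ _ _).symm.trans h).trans ?_
    show ((Over.pullback σ).map lam).left ≫ pullback.fst At.hom σ = (𝟙 _ ≫ pullback.fst A.hom σ) ≫ lam.left
    refine (congrArg (· ≫ pullback.fst At.hom σ) (map_left_eq σ lam)).trans ((bcMap_fst lam (Over.mk σ)).trans ?_)
    rw [Category.id_comp]
    rfl
  have key : PicF.pullCl (PicF.XTmap A.hom g) (PicF.pullCl iv n) =
      PicF.pullCl (PicF.XTmap A.hom (x ≫ lam)) ξ := by
    refine eq_of_phi_point hdual σ (pz_xtMap g hz) (pz_xtMap _ hξ.1) ?_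
    rw [hdual.relPic.natural _ _ g _ hz, hlamT, phi_xtMap hdual hξ, reassoc_of% hgx]
  rw [pr, pls_pls, lift_whiskerLeft, hdx, Category.assoc]
  show PicF.pullCl (lift (dn σ (𝟙 XΩ)) (toPt σ XΩ ≫ x ≫ lam)).left ξ = _
  rw [← xtMap_left, ← key, PicClLib.pullCl_comp]
  show PicF.pullCl _ n = PicF.pullCl (lift (𝟙 XΩ) (toUnit XΩ ≫ w)).left n
  exact congrArg (fun q => PicF.pullCl q n) (xtMap_bcXT σ w g rfl)

include hdual hξ in
/-- On a geometric fibre the class of a polarisation is symmetric, and it is biadditive. -/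
theorem graph_lambda [IsMonHom lam] {M : (Red.bc σ A).left.Modules} (hM : PicF.IsInvertible M)
    (hlam : AgPol.IsLambda (Red.bc σ A) (Red.bc σ At) (AgPol.bcDual σ A At φ) M ((Over.pullback σ).map lam))
    {W : Over (Spec (CommRingCat.of Ω))} (a b : W ⟶ XΩ) :
    pr σ (pls (A ◁ lam) ξ) (a * b) (a * b) =
      pr σ (pls (A ◁ lam) ξ) a b * pr σ (pls (A ◁ lam) ξ) a b *
        pr σ (pls (A ◁ lam) ξ) a a * pr σ (pls (A ◁ lam) ξ) b b := by
  set P := pls (A ◁ lam) ξ with hPdef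
  haveI : IsProper (XΩ).hom := inferInstanceAs (IsProper (pullback.snd A.hom σ))
  haveI : Smooth (XΩ).hom := inferInstanceAs (Smooth (pullback.snd A.hom σ))
  haveI := geometricallyIntegral_fibre σ A
  haveI : GeometricallyReduced (XΩ).hom := RigidGamma.geometricallyReduced_of_smooth _
  haveI : IsIntegral (XΩ).left := GeometricallyIntegral.isIntegral_of_subsingleton (XΩ).hom
  have hPi : PicF.IsInvertibleCl P := PicClLib.isInvertibleCl_pullCl _ (pz_invertible hξ.1)
  have hpre : ∀ {V : Over S} (u v : V ⟶ A), pls (lift u v) P = pls (lift u (v ≫ lam)) ξ := fun u v => by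
    rw [hPdef, pls_pls, lift_whiskerLeft]
  have ax1 : ∀ {V : Over (Spec (CommRingCat.of Ω))} (v : V ⟶ XΩ), pr σ P 1 v = 1 := fun {V} v => by
    rw [pr, dn_one, hpre, show lift (1 : (Over.map σ).obj V ⟶ A) (dn σ v ≫ lam) =
      (dn σ v ≫ lam) ≫ lift (1 : At ⟶ A) (𝟙 At) by rw [comp_lift, MonObj.comp_one, Category.comp_id],
      ← pls_pls, axis_left hξ, map_one]
  have ax2 : ∀ {V : Over (Spec (CommRingCat.of Ω))} (u : V ⟶ XΩ), pr σ P u 1 = 1 := fun {V} u => by
    rw [pr, dn_one, hpre, MonObj.one_comp, show lift (dn σ u) (1 : (Over.map σ).obj V ⟶ At) =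
      (Over.map σ).map u ≫ lift (dn σ (𝟙 XΩ)) (1 : (Over.map σ).obj XΩ ⟶ At) by
        rw [comp_lift, MonObj.comp_one, ← dn_comp, Category.comp_id],
      ← pls_pls, axis_right hdual hξ, map_one]
  let c := pr σ P (fst XΩ XΩ) (snd XΩ XΩ)
  have hc : PicF.IsInvertibleCl c := PicClLib.isInvertibleCl_pullCl _ hPi
  have hev : ∀ {V : Over (Spec (CommRingCat.of Ω))} (u v : V ⟶ XΩ), AVPair.pl (lift u v) c = pr σ P u v :=
    fun u v => by rw [pl_pr, lift_fst, lift_snd]
  -- the class of the polarisation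
  obtain ⟨N, hNi, hN, hNlam⟩ := hlam
  let n : PicF.Cl (XΩ ⊗ XΩ).left := PicF.cl N
  let m : PicF.Cl (XΩ).left := PicF.cl M
  have hn : PicF.IsInvertibleCl n := ⟨N, rfl, hNi⟩
  have hm : ∀ {V : Over (Spec (CommRingCat.of Ω))} (u : V ⟶ XΩ), IsUnit (pls u m) := fun u =>
    isUnit_pls u ⟨M, rfl, hM⟩
  have hone : ∀ {V : Over (Spec (CommRingCat.of Ω))}, pls (1 : V ⟶ XΩ) m = 1 := fun {V} => by
    haveI : Subsingleton (Spec (CommRingCat.of Ω) : Scheme.{u}) := inferInstanceAs (Subsingleton (PrimeSpectrum Ω))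
    haveI : Nonempty (Spec (CommRingCat.of Ω) : Scheme.{u}) := inferInstanceAs (Nonempty (PrimeSpectrum Ω))
    exact KLBasic.pull_one hM V
  have nax : pls (lift (1 : XΩ ⟶ XΩ) (𝟙 XΩ)) n = 1 := by
    have h := lambda_eq hN (1 : XΩ ⟶ XΩ) (𝟙 XΩ)
    rw [hone, _root_.mul_one, _root_.one_mul (𝟙 XΩ)] at h
    exact (hm (𝟙 _)).mul_right_cancel (h.trans (_root_.one_mul _).symm)
  have nax2 : pls (lift (𝟙 XΩ) (1 : XΩ ⟶ XΩ)) n = 1 := by
    have h := lambda_eq hN (𝟙 XΩ) (1 : XΩ ⟶ XΩ)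
    rw [hone, _root_.mul_one, _root_.mul_one (𝟙 XΩ)] at h
    exact (hm (𝟙 _)).mul_right_cancel (h.trans (_root_.one_mul _).symm)
  have nsymm : pls (lift (snd XΩ XΩ) (fst XΩ XΩ)) n = n := by
    have h1 := lambda_eq hN (snd XΩ XΩ) (fst XΩ XΩ)
    have h2 := lambda_eq hN (fst XΩ XΩ) (snd XΩ XΩ)
    rw [mul_comm (snd XΩ XΩ), ← h2, mul_right_comm, lift_fst_snd] at h1
    refine (hm (fst XΩ XΩ)).mul_right_cancel ((hm (snd XΩ XΩ)).mul_right_cancel (h1.trans ?_))
    rw [show pls (𝟙 (XΩ ⊗ XΩ)) n = n from PicClLib.pullCl_id n]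
  have hnz : AbDual.IsPicZeroCl (XΩ).hom XΩ n :=
    AVDual.pz_of_slice η[XΩ] hn (by rw [← Hom.one_def]; exact nax2)
  -- the two classes agree
  have hcn : c = n := by
    obtain ⟨d, hd, hnd⟩ := AVPair.exists_inv hn
    obtain ⟨Q, hQd, hQ⟩ := PicMul.isInvertibleCl_mul hc hd
    refine AVPair.eq_of_mul_inv hnd (hQd.symm.trans ((PicGrp.cl_eq_cl_iff _ _).2
      (AVSeesaw.triv_of_slices XΩ XΩ Q hQ (AVSeesaw.triv_fibre_of_points XΩ XΩ Q fun w => ?_) 1 ?_)))
    · refine (AVPair.triv_iff _).2 ?_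
      rw [hQd, map_mul]
      suffices e : AVPair.pl (lift (𝟙 XΩ) (toUnit XΩ ≫ w)) c = AVPair.pl (lift (𝟙 XΩ) (toUnit XΩ ≫ w)) n by
        rw [e, ← map_mul, hnd, map_one]
      rw [hev]
      exact slice_eq hdual hξ lam σ hnz hNlam w
    · refine (AVPair.triv_iff _).2 ?_
      rw [hQd, map_mul, hev, ax1, _root_.one_mul]
      have := congrArg (AVPair.pl (lift (1 : XΩ ⟶ XΩ) (𝟙 XΩ))) hnd
      rwa [map_mul, map_one, show AVPair.pl (lift (1 : XΩ ⟶ XΩ) (𝟙 XΩ)) n = 1 from nax, _root_.one_mul] at this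
  have hsym : ∀ {V : Over (Spec (CommRingCat.of Ω))} (u v : V ⟶ XΩ), pr σ P v u = pr σ P u v := fun u v => by
    rw [← hev v u, ← hev u v, hcn]
    conv_rhs => rw [← nsymm]
    show _ = AVPair.pl _ (AVPair.pl _ n)
    rw [AVPair.pl_pl, comp_lift, lift_snd, lift_fst]
  have hL := fun {V : Over (Spec (CommRingCat.of Ω))} (u u' v : V ⟶ XΩ) =>
    AVPair.add_left hc ((hev _ _).trans (ax1 _)) ((hev _ _).trans (ax2 _)) u u' v
  have hR := fun {V : Over (Spec (CommRingCat.of Ω))} (u v v' : V ⟶ XΩ) =>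
    AVPair.add_right hc ((hev _ _).trans (ax1 _)) ((hev _ _).trans (ax2 _)) u v v'
  simp only [hev] at hL hR
  rw [hL, hR, hR, hsym a b]
  ac_rfl

end Point

end Groth.Agent.AgPolPoinc
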