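import Groth.Agent.AgPolPoinc.Basic
import Groth.Agent.AbSchX.Transpose

/-!
Powers of a polarisation and the graph classes.
-/

set_option autoImplicit false
set_option linter.style.haveILetI false
set_option linter.unusedSectionVars false
set_option backward.isDefEq.respectTransparency false
set_option backward.isDefEq.respectTransparency.types false
set_option maxHeartbeats 800000

universe u

open CategoryTheory CategoryTheory.Limits MonoidalCategory CartesianMonoidalCategory MonObj AlgebraicGeometry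

noncomputable section

namespace Groth.Agent.AgPolPoinc

open Groth.Agent.H23 Groth.Agent.H23.TrivBasic Groth.Agent.AbDualBase
open scoped Groth.Agent.H23.PicMul CategoryTheory.Obj

variable {S : Scheme.{u}} {A At : Over S} [GrpObj A] [IsCommMonObj A] [GrpObj At] {φ : AgPol.DualMap A At}
  (hdual : AbDual.IsDualAV Scheme.fppfPrecoverage A At φ) {ξ : PicF.Cl (PicF.XT A.hom At)}
  (hξ : AbDual.IsPoincareCl A At φ ξ) (lam : A ⟶ At) [IsMonHom lam]
  {Ω : Type u} [Field Ω] [IsAlgClosed Ω] (σ : Spec (CommRingCat.of Ω) ⟶ S)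
  [IsProper A.hom] [Smooth A.hom] [GeometricallyConnected A.hom]

omit [IsCommMonObj A] [GrpObj At] [IsProper A.hom] [Smooth A.hom] [GeometricallyConnected A.hom] in
theorem dn_pow {W : Over (Spec (CommRingCat.of Ω))} (f : W ⟶ (Over.pullback σ).obj A) (n : ℕ) :
    dn σ (f ^ n) = dn σ f ^ n := by
  induction n with
  | zero => rw [pow_zero, pow_zero, dn_one]
  | succ n ih => rw [pow_succ, pow_succ, dn_mul, ih]

set_option quotPrecheck false in
local notation "XΩ" => (Over.pullback σ).obj A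

include hdual hξ in
/-- The graph class is additive in the second variable. -/
theorem pr_pow_right {W : Over (Spec (CommRingCat.of Ω))} (u v : W ⟶ XΩ) (k : ℕ) :
    pr σ (pls (A ◁ lam) ξ) u (v ^ k) = pr σ (pls (A ◁ lam) ξ) u v ^ k := by
  set P := pls (A ◁ lam) ξ with hPdef
  haveI : IsProper (XΩ).hom := inferInstanceAs (IsProper (pullback.snd A.hom σ))
  haveI : Smooth (XΩ).hom := inferInstanceAs (Smooth (pullback.snd A.hom σ))
  haveI := geometricallyIntegral_fibre σ A
  have hPi : PicF.IsInvertibleCl P := PicClLib.isInvertibleCl_pullCl _ (pz_invertible hξ.1)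
  have hpre : ∀ {V : Over S} (u v : V ⟶ A), pls (lift u v) P = pls (lift u (v ≫ lam)) ξ := fun u v => by
    rw [hPdef, pls_pls, lift_whiskerLeft]
  have ax1 : ∀ {V : Over (Spec (CommRingCat.of Ω))} (v : V ⟶ XΩ), pr σ P 1 v = 1 := fun {V} v => by
    rw [pr, dn_one, hpre, show lift (1 : (Over.map σ).obj V ⟶ A) (dn σ v ≫ lam) =
      (dn σ v ≫ lam) ≫ lift (1 : At ⟶ A) (𝟙 At) by rw [comp_lift, MonObj.comp_one, Category.comp_id],
      ← pls_pls, axis_left hξ, map_one]
  have ax2 : ∀ {V : Over (Spec (CommRingCat.of Ω))} (u : V ⟶ XΩ), pr σ P u 1 = 1 := fun {V} u => by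
    rw [pr, dn_one, hpre, MonObj.one_comp, show lift (dn σ u) (1 : (Over.map σ).obj V ⟶ At) =
      (Over.map σ).map u ≫ lift (dn σ (𝟙 XΩ)) (1 : (Over.map σ).obj XΩ ⟶ At) by
        rw [comp_lift, MonObj.comp_one, ← dn_comp, Category.comp_id],
      ← pls_pls, axis_right hdual hξ, map_one]
  let c := pr σ P (fst XΩ XΩ) (snd XΩ XΩ)
  have hc : PicF.IsInvertibleCl c := PicClLib.isInvertibleCl_pullCl _ hPi
  have hev : ∀ {V : Over (Spec (CommRingCat.of Ω))} (u v : V ⟶ XΩ), AVPair.pl (lift u v) c = pr σ P u v :=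
    fun u v => by rw [pl_pr, lift_fst, lift_snd]
  have hR := fun (u v v' : W ⟶ XΩ) =>
    AVPair.add_right hc ((hev _ _).trans (ax1 _)) ((hev _ _).trans (ax2 _)) u v v'
  simp only [hev] at hR
  induction k with
  | zero => rw [pow_zero, pow_zero, ax2]
  | succ k ih => rw [pow_succ, pow_succ, hR, ih]

include hdual hξ in
/-- Classes pulled back along the graphs of powers determine the values of the polarisation up to torsion. -/
theorem point_pow {k : ℕ} {l : PicF.Cl A.left} (hl : l = pls (lift (𝟙 A) (lam ^ k)) ξ)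
    {M : (Red.bc σ A).left.Modules} (hM : PicF.IsInvertible M)
    (hlamM : AgPol.IsLambda (Red.bc σ A) (Red.bc σ At) (AgPol.bcDual σ A At φ) M ((Over.pullback σ).map lam))
    (x : Over.mk σ ⟶ A) :
    pls (dn σ (𝟙 XΩ * up σ (toPt σ XΩ ≫ x))) l =
      pls (lift (dn σ (𝟙 XΩ)) (toPt σ XΩ ≫ x ≫ lam)) ξ ^ (2 * k) * pls (dn σ (𝟙 XΩ)) l *
        pls (toPt σ XΩ ≫ x) l := by
  let b := up σ (toPt σ XΩ ≫ x)
  have hb : dn σ b = toPt σ XΩ ≫ x := dn_up σ _
  have hpr : ∀ {W : Over (Spec (CommRingCat.of Ω))} (f : W ⟶ XΩ),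
      pls (dn σ f) l = pr σ (pls (A ◁ lam) ξ) f f ^ k := fun {W} f => by
    have hf : dn σ (f ^ k) = dn σ f ^ k := dn_pow σ f k
    rw [← pr_pow_right hdual hξ lam σ, pr, pls_pls, lift_whiskerLeft, hl, pls_pls, comp_lift, Category.comp_id,
      MonObj.comp_pow, hf, MonObj.pow_comp]
  have hcpr : pls (lift (dn σ (𝟙 XΩ)) (toPt σ XΩ ≫ x ≫ lam)) ξ = pr σ (pls (A ◁ lam) ξ) (𝟙 XΩ) b := by
    rw [pr, hb, pls_pls, lift_whiskerLeft, Category.assoc]
  rw [hpr, graph_lambda hdual hξ lam σ hM hlamM, ← hb, hpr, hpr, hcpr, mul_pow, mul_pow, ← sq, ← pow_mul]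
  rw [up_dn]

end Groth.Agent.AgPolPoinc
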